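import Groth.Agent.CurveSq.Embed
import Groth.Agent.DualLib.TopFinite

/-!
# Powers of a non-special module with a regular section
-/

set_option autoImplicit false
set_option linter.style.haveILetI false
set_option backward.isDefEq.respectTransparency.types false

universe u

open CategoryTheory CategoryTheory.Limits AlgebraicGeometry Opposite TopologicalSpace
open Groth.Agent.Coherent Groth.Agent.PicLib Groth.Agent.AmpleLib Groth.Agent.EulerLib Groth.Agent.Lipman24

namespace Groth.Agent.CurveSq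

variable {X : Scheme.{u}}

/-- A regular section generates at every generic point. -/
theorem generic_mem_glocus {L : X.Modules} (hL : PicF.IsInvertible L) (t : Γ(L, ⊤)) [Mono (unitDesc L t)]
    {η : X} (hη : ∀ y : X, y ⤳ η → y = η) : η ∈ glocus L t := by
  obtain ⟨U₀, hηU, g₀, hg₀⟩ := exists_isGen hL η
  obtain ⟨V, hV, hηV, hVU⟩ := exists_isAffineOpen_mem_and_subset (x := η) (U := U₀) hηU
  have hg := hg₀.restrict (show V ≤ U₀ from hVU)
  let c := hg.coef le_rfl (resM L le_top t)
  have hc : c • resM L (show V ≤ U₀ from hVU) g₀ = resM L (le_top : V ≤ ⊤) t := by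
    have := hg.coef_spec le_rfl (resM L le_top t); rwa [resM_self] at this
  by_contra hne
  have hnb : η ∉ X.basicOpen c := fun h => hne ((glocus_inf t hg).ge h).1
  let p := hV.primeIdealOf ⟨η, hηV⟩
  have hcp : c ∈ p.asIdeal := by
    by_contra h
    refine hnb ?_
    have h2 : p ∈ hV.fromSpec ⁻¹ᵁ X.basicOpen c := by rw [hV.fromSpec_preimage_basicOpen]; exact h
    have h3 : hV.fromSpec p ∈ X.basicOpen c := h2
    rwa [hV.fromSpec_primeIdealOf ⟨η, hηV⟩] at h3
  have hmin : p.asIdeal ∈ minimalPrimes Γ(X, V) := by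
    refine ⟨⟨p.isPrime, bot_le⟩, fun q ⟨hq, _⟩ hqp => ?_⟩
    let q' : PrimeSpectrum Γ(X, V) := ⟨q, hq⟩
    have hsp : q' ⤳ p := (PrimeSpectrum.le_iff_specializes _ _).1 hqp
    have h := hsp.map hV.fromSpec.continuous
    rw [hV.fromSpec_primeIdealOf ⟨η, hηV⟩] at h
    have e := hη _ h
    have e' : q' = p :=
      hV.fromSpec.isOpenEmbedding.injective (e.trans (hV.fromSpec_primeIdealOf ⟨η, hηV⟩).symm)
    exact (congrArg PrimeSpectrum.asIdeal e').ge
  have hreg : c ∈ nonZeroDivisors Γ(X, V) := mem_nonZeroDivisors_iff_right.2 fun r hr => by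
    refine app_injective_of_mono (unitDesc L t) V ?_
    refine ((CurveRR24.unitDesc_app L t V r).trans ?_).trans (map_zero _).symm
    rw [← hc, smul_smul, hr, zero_smul]
  exact Set.disjoint_left.1 (Ideal.disjoint_nonZeroDivisors_of_mem_minimalPrimes hmin) hcp hreg

/-- The zero set of a regular section on a scheme of dimension at most one is finite and discrete. -/
theorem finite_compl_glocus [IsNoetherian X] (hdim : topologicalKrullDim X ≤ (1 : ℕ)) {L : X.Modules}
    (hL : PicF.IsInvertible L) (t : Γ(L, ⊤)) [Mono (unitDesc L t)] :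
    topologicalKrullDim ((glocus L t : Set X)ᶜ : Set X) < (1 : ℕ) ∧ ((glocus L t : Set X)ᶜ).Finite ∧
      ∀ z ∈ (glocus L t : Set X)ᶜ, IsClosed ({z} : Set X) := by
  have hT : IsClosed ((glocus L t : Set X)ᶜ) := (glocus L t).2.isClosed_compl
  have hlt : topologicalKrullDim ((glocus L t : Set X)ᶜ : Set X) < (1 : ℕ) := by
    refine DualLib.TopFinite.dim_lt_of_components hdim hT fun C hC hle => ?_
    obtain ⟨η, hη⟩ := QuasiSober.sober hC.1 (isClosed_of_mem_irreducibleComponents C hC)
    refine hle hη.mem (generic_mem_glocus hL t fun y hy => ?_)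
    have hsub : C ⊆ closure ({y} : Set X) := by
      rw [← hη.def]
      exact closure_minimal (Set.singleton_subset_iff.2 (specializes_iff_mem_closure.1 hy)) isClosed_closure
    have hle' := hC.2 isIrreducible_singleton.closure hsub
    exact hy.antisymm (hη.specializes (hle' (subset_closure rfl))) |>.eq
  have h0 : topologicalKrullDim ((glocus L t : Set X)ᶜ : Set X) ≤ 0 := by
    revert hlt
    generalize topologicalKrullDim ((glocus L t : Set X)ᶜ : Set X) = a
    intro ha
    match a with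
    | ⊥ => exact bot_le
    | (a : ℕ∞) =>
      rw [show (1 : ℕ) = 0 + 1 from rfl, Nat.cast_succ] at ha
      exact WithBot.coe_le_coe.2 (ENat.lt_natCast_add_one_iff.1 (WithBot.coe_lt_coe.1 ha))
  obtain ⟨hf, hd⟩ := TopDim.finite_discrete_of_dim_le_zero h0
  refine ⟨hlt, Set.toFinite _, fun z hz => ?_⟩
  have h := (isClosed_discrete ({⟨z, hz⟩} : Set ((glocus L t : Set X)ᶜ : Set X)))
  have h2 := hT.isClosedEmbedding_subtypeVal.isClosedMap _ h
  rwa [Set.image_singleton] at h2

/-- A global section of a module supported on a finite closed set with given germ at one of its points. -/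
theorem exists_global_of_local (M : X.Modules) {T : Set X} (hTf : T.Finite)
    (hTc : ∀ t ∈ T, IsClosed ({t} : Set X)) (hM : CohB1.support M ⊆ T) {z : X} (hz : z ∈ T)
    {V : X.Opens} (hzV : z ∈ V) (s : Γ(M, V)) :
    ∃ (g : Γ(M, ⊤)) (W : X.Opens) (hW : W ≤ V), z ∈ W ∧ resM M le_top g = resM M hW s := by
  classical
  have hclosed : IsClosed (T \ {z}) := by
    rw [show T \ {z} = ⋃ y ∈ (T \ {z}), ({y} : Set X) from (Set.biUnion_of_singleton _).symm]
    exact (hTf.subset Set.sdiff_subset).isClosed_biUnion fun y hy => hTc y hy.1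
  let V₀ : X.Opens := V ⊓ ⟨(T \ {z})ᶜ, hclosed.isOpen_compl⟩
  let O : X.Opens := ⟨({z} : Set X)ᶜ, (hTc z hz).isOpen_compl⟩
  have hz0 : z ∈ V₀ := ⟨hzV, fun h => h.2 rfl⟩
  let F : TopCat.Sheaf Ab X := ⟨M.presheaf, M.isSheaf⟩
  let U : ULift.{u} Bool → X.Opens := fun b => if b.down then V₀ else O
  let sf : ∀ b, ToType (F.presheaf.obj (op (U b))) := fun b =>
    match b with
    | ⟨true⟩ => (resM M (inf_le_left : V₀ ≤ V) s : Γ(M, V₀))
    | ⟨false⟩ => (0 : Γ(M, O))
  have hdis : ∀ W : X.Opens, W ≤ V₀ → W ≤ O → Subsingleton Γ(M, W) := fun W h1 h2 =>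
    subsingleton_sections_of_disjoint M W (Set.disjoint_left.2 fun x hx hxs =>
      (h1 hx).2 ⟨hM hxs, h2 hx⟩)
  have hcompat : TopCat.Presheaf.IsCompatible F.presheaf U sf := by
    rintro ⟨_ | _⟩ ⟨_ | _⟩
    · rfl
    · exact (hdis _ inf_le_right inf_le_left).elim _ _
    · exact (hdis _ inf_le_left inf_le_right).elim _ _
    · rfl
  obtain ⟨g, hg, -⟩ := TopCat.Sheaf.existsUnique_gluing' F U ⊤ (fun _ => homOfLE le_top)
    (fun y _ => by
      by_cases h : y = z
      · exact Opens.mem_iSup.2 ⟨⟨true⟩, by rw [h]; exact hz0⟩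
      · exact Opens.mem_iSup.2 ⟨⟨false⟩, h⟩) sf hcompat
  exact ⟨g, V₀, inf_le_left, hz0, hg ⟨true⟩⟩

/-- Non-special with a regular section: the higher powers are non-special and generated. -/
theorem gl_pow [IsNoetherian X] [X.IsSeparated] (hdim : topologicalKrullDim X ≤ (1 : ℕ)) {L : X.Modules}
    (hL : PicF.IsInvertible L) (t : Γ(L, ⊤)) [Mono (unitDesc L t)] (h1 : Subsingleton (Coh.HH X L 1))
    (n : ℕ) (hn : 1 ≤ n) :
    Subsingleton (Coh.HH X (CohB1.tensorPow L n) 1) ∧ Gl (CohB1.tensorPow L (n + 1)) := by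
  obtain ⟨hlt, hTf, hTc⟩ := finite_compl_glocus hdim hL t
  let S₀ : ShortComplex X.Modules := ShortComplex.mk (unitDesc L t) (cokernel.π _) (cokernel.condition _)
  have hS₀ : S₀.ShortExact := { exact := ShortComplex.exact_of_g_is_cokernel _ (cokernelIsCokernel _) }
  haveI : Coh.IsQCoh (Coh.structureModule X) := isQCoh_structureModule (X := X)
  haveI : Coh.IsQCoh L := isQCoh_of_isInvertible hL
  haveI : Coh.IsQCoh (cokernel (unitDesc L t)) := isQCoh_cokernel _
  have hsupp : ∀ m, CohB1.support (twistSeq S₀ (CohB1.tensorPow L m)).X₃ ⊆ (glocus L t : Set X)ᶜ := fun m => by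
    rw [show CohB1.support (twistSeq S₀ (CohB1.tensorPow L m)).X₃ = CohB1.support (cokernel (unitDesc L t)) from
      support_twist (isInvertible_tensorPow hL m) _]
    exact CurveRR24.support_cokernel_unitDesc t
  have hqc : ∀ m, Coh.IsQCoh (twistSeq S₀ (CohB1.tensorPow L m)).X₃ := fun m =>
    haveI := isQCoh_of_isInvertible (isInvertible_tensorPow hL m)
    isQCoh_tensorMod (cokernel (unitDesc L t)) (CohB1.tensorPow L m)
  let e₂ : ∀ m, CohB1.tensorMod L (CohB1.tensorPow L m) ≅ CohB1.tensorPow L (m + 1) := fun m =>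
    tensorComm L (CohB1.tensorPow L m)
  have hH : ∀ m, 1 ≤ m → Subsingleton (Coh.HH X (CohB1.tensorPow L m) 1) := fun m hm => by
    induction m, hm using Nat.le_induction with
    | base => exact CurveRR24.subsingleton_HH_congr (unitTensorIso L).symm 1 h1
    | succ m _ ih =>
      refine CurveRR24.subsingleton_HH_congr (e₂ m) 1 ?_
      refine subsingleton_HH_X₂ (twistSeq_shortExact (isInvertible_tensorPow hL m) hS₀) 1 ?_ ?_
      · exact CurveRR24.subsingleton_HH_congr (unitTensorIso _).symm 1 ih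
      · exact subsingleton_HH_of_support ⟨_, (glocus L t).2.isClosed_compl⟩ _ (hqc m) (hsupp m) 1 hlt
  refine ⟨hH n hn, fun z => ?_⟩
  by_cases hz : z ∈ glocus L t
  · exact ⟨powSec t (n + 1), (glocus_powSec hL t n).ge hz⟩
  let S := twistSeq S₀ (CohB1.tensorPow L n)
  have hS : S.ShortExact := twistSeq_shortExact (isInvertible_tensorPow hL n) hS₀
  obtain ⟨U₀, hzU, g₀, hg₀⟩ := exists_isGen hL z
  let G : Γ(S.X₂, U₀) := tmul g₀ (powSec g₀ n)
  obtain ⟨c, W, hW, hzW, hc⟩ := exists_global_of_local S.X₃ hTf hTc (hsupp n) hz hzU (S.g.app U₀ G)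
  obtain ⟨σ, hσ⟩ := surjective_app_top hS
    (CurveRR24.subsingleton_HH_congr (unitTensorIso _).symm 1 (hH n hn)) c
  refine ⟨(e₂ n).hom.app ⊤ σ, ?_⟩
  rw [glocus_map_iso]
  -- near `z` the difference to the generator is a multiple of `t`
  have hd : S.g.app W (resM S.X₂ le_top σ - resM S.X₂ hW G) = 0 := by
    rw [map_sub, app_resM, app_resM, hσ, hc, sub_self]
  obtain ⟨a, ha⟩ := Coherent.sections_exact hS _ hd
  have hg := hg₀.restrict hW
  obtain ⟨r, hr⟩ := (isGen_tmul (isGen_oneSec W) (isGen_powSec hg n) W le_rfl).2 a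
  simp only [resM_self] at hr
  let f := hg.coef le_rfl (resM L le_top t)
  have hf : f • resM L hW g₀ = resM L (le_top : W ≤ ⊤) t := by
    have := hg.coef_spec le_rfl (resM L le_top t); rwa [resM_self] at this
  have hzf : z ∉ X.basicOpen f := fun h => hz ((glocus_inf t hg).ge h).1
  have hgen := isGen_tmul hg (isGen_powSec hg n)
  have hkey : resM S.X₂ (le_top : W ≤ ⊤) σ = (1 + r * f) • tmul (resM L hW g₀) (powSec (resM L hW g₀) n) := by
    have h2 : S.f.app W a = (r * f) • tmul (resM L hW g₀) (powSec (resM L hW g₀) n) := by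
      rw [← hr]
      erw [Scheme.Modules.Hom.app_smul]
      rw [mul_smul]
      congr 1
      show (tensorMap (unitDesc L t) (𝟙 _)).app W (tmul (oneSec W) _) = _
      rw [tensorMap_tmul]
      show tmul ((unitDesc L t).app W (oneSec W)) (powSec (resM L hW g₀) n) = _
      rw [show (unitDesc L t).app W (oneSec W) = resM L (le_top : W ≤ ⊤) t from
        (CurveRR24.unitDesc_app L t W 1).trans (one_smul _ _), ← hf]
      have h3 := tmul_smul_smul f (1 : Γ(X, W)) (resM L hW g₀) (powSec (resM L hW g₀) n)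
      rwa [one_smul, mul_one] at h3
    rw [add_smul, one_smul, ← h2, ha]
    have h4 : resM S.X₂ hW G = tmul (resM L hW g₀) (powSec (resM L hW g₀) n) := by
      refine (resM_tmul hW g₀ (powSec g₀ n)).trans ?_
      rw [resM_powSec]
    rw [← h4]
    abel
  have hco : hgen.coef le_rfl (resM S.X₂ le_top σ) = 1 + r * f :=
    hgen.coef_eq le_rfl (by rw [resM_self]; exact hkey.symm)
  have hmem : z ∈ X.basicOpen (hgen.coef le_rfl (resM S.X₂ le_top σ)) := by
    rw [hco, Scheme.mem_basicOpen _ _ _ hzW, map_add, map_one, map_mul]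
    rw [Scheme.mem_basicOpen _ _ _ hzW] at hzf
    have hnu : ¬ IsUnit (X.presheaf.germ W z hzW r * X.presheaf.germ W z hzW f) := fun h =>
      hzf (isUnit_of_mul_isUnit_right h)
    have := IsLocalRing.isUnit_one_sub_self_of_mem_nonunits (-(X.presheaf.germ W z hzW r * X.presheaf.germ W z hzW f))
      (by simpa [mem_nonunits_iff] using hnu)
    rwa [sub_neg_eq_add] at this
  exact ((glocus_inf σ hgen).ge hmem).1

/-- The sixth power embeds. -/
theorem exists_closedImmersion_six (k : Type u) [Field k] [X.Over (Spec (CommRingCat.of k))]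
    [IsProper (X ↘ Spec (CommRingCat.of k))] (hdim : topologicalKrullDim X ≤ 1) {L : X.Modules}
    (hA : CohB1.IsAmple L) (s : Coh.structureModule X ⟶ L) [Mono s] (h1 : Subsingleton (Coh.HH X L 1)) :
    ∃ (n : ℕ) (i : X ⟶ CohB1.ProjSpace n k), IsClosedImmersion i ∧
      i ≫ CohB1.ProjSpace.toSpec n k = X ↘ (Spec (CommRingCat.of k)) ∧
      Nonempty ((Scheme.Modules.pullback i).obj (Twist.twistProjSpace n k 1) ≅ CohB1.tensorPow L 6) := by
  haveI := EulerLib.isNoetherian_of_proper k (X := X)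
  haveI : X.IsSeparated := EulerLib.isSeparated_of_proper (X := X) k
  haveI : Mono (unitDesc L (unitVal s ⊤)) := by rw [unitDesc_unitVal]; infer_instance
  have h := gl_pow (by exact_mod_cast hdim) hA.1 (unitVal s ⊤) h1
  obtain ⟨-, hg⟩ := h 2 (by omega)
  obtain ⟨h3, -⟩ := h 3 (by omega)
  obtain ⟨n, i, hi, hiq, ⟨e⟩⟩ := exists_closedImmersion_sq k hdim ((isAmple_pow_iff hA.1 3 (by omega)).2 hA) hg h3
  obtain ⟨e', -⟩ := exists_powPowIso hA.1 3 2
  exact ⟨n, i, hi, hiq, ⟨e ≪≫ e'⟩⟩

end Groth.Agent.CurveSq
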