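import Groth.Agent.Clifford24.Lipman.VeryAmple
import Groth.Agent.Clifford24.Lipman.Field
import Groth.Agent.AbCubeLib.ProjEmbedding

/-!
# The square of a non-special generated ample module embeds
-/

set_option autoImplicit false
set_option linter.style.haveILetI false
set_option backward.isDefEq.respectTransparency.types false

universe u

open CategoryTheory CategoryTheory.Limits AlgebraicGeometry Opposite TopologicalSpace
open Groth.Agent.Coherent Groth.Agent.PicLib Groth.Agent.AmpleLib Groth.Agent.EulerLib Groth.Agent.Lipman24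

namespace Groth.Agent.CurveSq

variable {X : Scheme.{u}} {A : Type u} [CommRing A] [IsNoetherianRing A]

/-- If `L` is ample, generated, with `H¹(L^n) = 0` for `n ≥ 1`, then `L²` is very ample. -/
theorem isRelVeryAmplePn_sq (f : X ⟶ Spec (CommRingCat.of A)) [IsProper f] (hv : NoH2 X)
    {L : X.Modules} (hA : CohB1.IsAmple L) (hg : Gl L)
    (h : ∀ n, 1 ≤ n → Subsingleton (Coh.HH X (CohB1.tensorPow L n) 1)) :
    RelAmple.IsRelVeryAmplePn f (CohB1.tensorPow L 2) := by
  classical
  have hL : PicF.IsInvertible L := hA.1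
  let _ : X.Over (Spec (CommRingCat.of A)) := ⟨f⟩
  haveI : CompactSpace X := QuasiCompact.compactSpace_of_compactSpace f
  haveI : QuasiSeparatedSpace X := quasiSeparatedSpace_of_quasiSeparated f
  haveI : IsLocallyNoetherian X := LocallyOfFiniteType.isLocallyNoetherian f
  let φ := baseHom A X
  let M := CohB1.tensorPow L 2
  have hM : PicF.IsInvertible M := isInvertible_tensorPow hL 2
  haveI : Module.Finite A (GA φ M) := by
    haveI : Module.Finite A (HA φ M (⊤ : X.Opens) 0) :=
      finCoh_of_isProper f M (PicLib.isCoh_of_isInvertible hM) 0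
    exact Module.Finite.equiv (secA φ M)
  obtain ⟨T, hT⟩ := Module.Finite.fg_top (R := A) (M := GA φ M)
  obtain ⟨C, hC⟩ := hg.exists_finset
  let T' : Finset Γ(M, ⊤) := T.image fun x => (show Γ(M, ⊤) from x)
  let S : Finset Γ(M, ⊤) := T' ∪ C.image fun s => powSec s 2
  let σ : Fin (S.card + 1) → Γ(M, ⊤) := Fin.cons 0 fun i => (S.equivFin.symm i).1
  have hσ : ∀ s ∈ S, ∃ i, σ i = s := fun s hs => ⟨(S.equivFin ⟨s, hs⟩).succ, by simp [σ]⟩
  let J : Set (Fin (S.card + 1)) := {j | ∃ s ∈ C, σ j = powSec s 2}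
  refine PnEmb.isRelVeryAmplePn_of_sections f hM σ J (fun x => ?_) ?_ ?_
  · obtain ⟨s, hs, hxs⟩ := hC x
    obtain ⟨i, hi⟩ := hσ (powSec s 2) (Finset.mem_union_right _ (Finset.mem_image_of_mem _ hs))
    exact ⟨i, ⟨s, hs, hi⟩, hi.symm ▸ ((glocus_powSec hL s 1).ge hxs)⟩
  · rintro j ⟨s, -, hs⟩
    rw [hs, glocus_powSec hL s 1]
    exact MorProj.isAffineOpen_glocus_of_universallyClosed f hA s
  rintro j ⟨s, -, hs⟩
  let U := glocus M (σ j)
  have hUs : U = glocus L s := by
    show glocus M (σ j) = _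
    rw [hs]; exact glocus_powSec hL s 1
  let g : Γ(L, U) := resM L le_top s
  have hg1 : IsGen L U g := (le_glocus_iff s U).1 hUs.le
  let g₀ : Γ(M, U) := resM M le_top (σ j)
  have hg₀ : IsGen M U g₀ := isGen_glocus (σ j)
  have hg₀' : g₀ = powSec g 2 := by
    show resM M le_top (σ j) = _
    rw [hs]; exact resM_powSec (L := L) (le_top : U ≤ ⊤) s 2
  let H : Subring Γ(X, U) := Subring.closure (Set.range (f.appLE ⊤ U le_top) ∪
    Set.range fun k => hg₀.coef le_rfl (resM M le_top (σ k)))
  show H = ⊤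
  have hbase : ∀ a : A, (X.presheaf.map (homOfLE (le_top (a := U))).op (φ a) : Γ(X, U)) ∈ H := fun a =>
    Subring.subset_closure (Or.inl ⟨(Scheme.ΓSpecIso (CommRingCat.of A)).inv a, by
      rw [Scheme.Hom.appLE, ConcreteCategory.comp_apply]
      rfl⟩)
  have htwo : ∀ z : GA φ M, ∃ c ∈ H, resM M (le_top : U ≤ ⊤) (show Γ(M, ⊤) from z) = c • g₀ := fun z => by
    have hz : z ∈ Submodule.span A (T : Set (GA φ M)) := hT.ge Submodule.mem_top
    induction hz using Submodule.span_induction with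
    | mem x hx =>
      obtain ⟨i, hi⟩ := hσ (show Γ(M, ⊤) from x) (Finset.mem_union_left _ (Finset.mem_image_of_mem _ hx))
      refine ⟨_, Subring.subset_closure (Or.inr ⟨i, rfl⟩), ?_⟩
      have := hg₀.coef_spec le_rfl (resM M le_top (σ i))
      rw [resM_self] at this
      rw [this, hi]
    | zero => exact ⟨0, zero_mem _, by rw [zero_smul]; exact map_zero _⟩
    | add x y _ _ hx hy =>
      obtain ⟨c, hc, ec⟩ := hx
      obtain ⟨d, hd, ed⟩ := hy
      refine ⟨c + d, add_mem hc hd, ?_⟩
      rw [add_smul, ← ec, ← ed]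
      exact map_add _ _ _
    | smul a x _ hx =>
      obtain ⟨c, hc, ec⟩ := hx
      refine ⟨_, mul_mem (hbase a) hc, ?_⟩
      rw [mul_smul, ← ec]
      exact resM_smul M (le_top : U ≤ ⊤) (φ a) (show Γ(M, ⊤) from x)
  have hone : ∀ b : Γ(L, ⊤), ∃ c ∈ H, resM L (le_top : U ≤ ⊤) b = c • g := fun b => by
    obtain ⟨c, hc, ec⟩ := htwo (show GA φ M from tmul (tmul (powSec s 0) b) s)
    obtain ⟨d, hd⟩ := (hg1 U le_rfl).2 (resM L le_top b)
    simp only [resM_self] at hd
    refine ⟨c, hc, ?_⟩
    have e : (resM M (le_top : U ≤ ⊤)) (tmul (tmul (powSec s 0) b) s) = d • g₀ := by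
      refine (resM_tmul (le_top : U ≤ ⊤) (tmul (powSec s 0) b) s).trans ?_
      refine (congrArg (tmul · _) (resM_tmul (le_top : U ≤ ⊤) (powSec s 0) b)).trans ?_
      rw [resM_powSec, ← hd, hg₀']
      show tmul (tmul (powSec g 0) (d • g)) g = d • tmul (tmul (powSec g 0) g) g
      have h1 := tmul_smul_smul (1 : Γ(X, U)) d (powSec g 0) g
      rw [one_smul, one_mul] at h1
      rw [h1]
      have h2 := tmul_smul_smul d (1 : Γ(X, U)) (tmul (powSec g 0) g) g
      rwa [one_smul, mul_one] at h2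
    have := (hg₀ U le_rfl).1 (a₁ := d) (a₂ := c) (by simpa only [resM_self] using e.symm.trans ec)
    rw [← this, hd]
  have hglob : ∀ r : Γ(X, ⊤), (X.presheaf.map (homOfLE (le_top (a := U))).op r : Γ(X, U)) ∈ H := fun r => by
    obtain ⟨c, hc, e⟩ := htwo (show GA φ M from r • σ j)
    have e' : (X.presheaf.map (homOfLE (le_top (a := U))).op r : Γ(X, U)) • g₀ = c • g₀ :=
      (resM_smul M (le_top : U ≤ ⊤) r (σ j)).symm.trans e
    have := (hg₀ U le_rfl).1 (a₁ := (X.presheaf.map (homOfLE (le_top (a := U))).op r : Γ(X, U))) (a₂ := c)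
      (by simpa only [resM_self] using e')
    exact this ▸ hc
  have hpow : ∀ (n : ℕ) (z : Γ(CohB1.tensorPow L n, ⊤)),
      ∃ c ∈ H, resM (CohB1.tensorPow L n) (le_top : U ≤ ⊤) z = c • powSec g n := by
    intro n
    induction n with
    | zero =>
      intro z
      refine ⟨_, hglob (show Γ(X, ⊤) from z), ?_⟩
      exact (mul_one (X.presheaf.map (homOfLE (le_top (a := U))).op (show Γ(X, ⊤) from z) : Γ(X, U))).symm
    | succ n ih =>
      intro z
      by_cases hn : n = 1
      · subst hn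
        obtain ⟨c, hc, ec⟩ := htwo (show GA φ M from z)
        exact ⟨c, hc, hg₀' ▸ ec⟩
      have hdec : ∃ (m : ℕ) (b : Fin m → Γ(L, ⊤)) (w : Fin m → Γ(CohB1.tensorPow L n, ⊤)),
          z = ∑ i, tmul (w i) (b i) := by
        rcases Nat.eq_zero_or_pos n with hn0 | hn0
        · subst hn0
          refine ⟨1, fun _ => (unitTensorIso L).hom.app ⊤ z, fun _ => oneSec (⊤ : X.Opens), ?_⟩
          rw [Fin.sum_univ_one]
          refine (ConcreteCategory.bijective_of_isIso ((unitTensorIso L).hom.app ⊤)).1 ?_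
          exact ((Bilin.desc_tmul _ _ _ _).trans (one_smul Γ(X, ⊤) ((unitTensorIso L).hom.app ⊤ z))).symm
        · exact exists_sum_tmul_pow hv hL hg n (h (n - 1) (by omega)) z
      obtain ⟨m, b, w, rfl⟩ := hdec
      choose c hc ec using fun i => ih (w i)
      choose d hd ed using fun i => hone (b i)
      refine ⟨∑ i, c i * d i, sum_mem fun i _ => mul_mem (hc i) (hd i), ?_⟩
      refine (map_sum (resM (CohB1.tensorPow L (n + 1)) (le_top : U ≤ ⊤)) _ _).trans ?_
      refine Eq.trans ?_ (Finset.sum_smul).symm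
      refine Finset.sum_congr rfl fun i _ => ?_
      refine (resM_tmul (le_top : U ≤ ⊤) (w i) (b i)).trans ?_
      rw [ec i, show resM L (le_top : U ≤ ⊤) (b i) = d i • g from ed i]
      exact tmul_smul_smul _ _ _ _
  refine eq_top_iff.2 fun c _ => ?_
  haveI : Coh.IsQCoh (Coh.structureModule X) := isQCoh_structureModule (X := X)
  obtain ⟨n, t, ht⟩ := exists_extend (Coh.structureModule X) s hL
    (resM (Coh.structureModule X) hUs.ge (show Γ(Coh.structureModule X, U) from c))
  obtain ⟨d, hd, ed⟩ := hpow n ((unitTensorIso _).hom.app ⊤ t)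
  have e : resM (CohB1.tensorPow L n) (le_top : U ≤ ⊤) ((unitTensorIso _).hom.app ⊤ t) = c • powSec g n := by
    have ht' := congrArg (resM _ hUs.le) ht
    rw [resM_resM, resM_tmul, resM_resM, resM_self, resM_powSec, resM_resM] at ht'
    rw [← app_resM, ht']
    exact Bilin.desc_tmul _ _ _ _
  have := ((isGen_powSec hg1 n) U le_rfl).1 (a₁ := c) (a₂ := d) (by simpa only [resM_self] using e.symm.trans ed)
  exact this ▸ hd

/-- The square embeds into projective space. -/
theorem exists_closedImmersion_sq (k : Type u) [Field k] [X.Over (Spec (CommRingCat.of k))]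
    [IsProper (X ↘ Spec (CommRingCat.of k))] (hdim : topologicalKrullDim X ≤ 1) {L : X.Modules}
    (hA : CohB1.IsAmple L) (hg : Gl L) (h1 : Subsingleton (Coh.HH X L 1)) :
    ∃ (n : ℕ) (i : X ⟶ CohB1.ProjSpace n k), IsClosedImmersion i ∧
      i ≫ CohB1.ProjSpace.toSpec n k = X ↘ (Spec (CommRingCat.of k)) ∧
      Nonempty ((Scheme.Modules.pullback i).obj (Twist.twistProjSpace n k 1) ≅ CohB1.tensorPow L 2) := by
  haveI := EulerLib.isNoetherian_of_proper k (X := X)
  haveI : X.IsSeparated := EulerLib.isSeparated_of_proper (X := X) k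
  haveI : CompactSpace X := inferInstance
  have hv := noH2_of_dim hdim
  have h11 : Subsingleton (Coh.HH X (CohB1.tensorPow L 1) 1) :=
    CurveRR24.subsingleton_HH_congr (unitTensorIso L).symm 1 h1
  exact AbCubeLib.exists_isClosedImmersion_projSpace _ (isInvertible_tensorPow hA.1 2)
    (isRelVeryAmplePn_sq _ hv hA hg (hg.subsingleton_H1_pow hv hA.1 h11))

end Groth.Agent.CurveSq
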